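import Cfsg.Agent.McC.Def2
import Cfsg.Agent.McC.Act
import Cfsg.Agent.McC.MoMc
import Cfsg.Agent.McC.MoLy
import Cfsg.Agent.McC.Cov2

/-!
# Groups `K` with `K / O(K) = McL` or `Ly`
-/

set_option autoImplicit false
set_option linter.unusedSectionVars false
set_option maxRecDepth 100000

namespace Cfsg.Agent.McC

open Cfsg Subgroup Cfsg.Agent.X32 Cfsg.Agent.Wr Cfsg.Agent.Wr2 TG Cfsg.Agent.PLocal
  Cfsg.Agent.PLocal.Amb Cfsg.Agent.Lyons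
open Cfsg.Agent.Suz (C)
open Cfsg.Agent.Sol (Ox Lx PC Two modO DC mC)
open Cfsg.Agent.Bender (Invol)
open scoped commutatorElement

section
variable {A Y : Type*} [Group A] [Group Y] [Finite A] [Finite Y] {A0 Ap Zp : Subgroup A} {π : A → Y}
  {Y₀ : Subgroup Y} {φ : S →* Y} {w : ℕ → Y} {σ : Y} {χ : S →* A} {n : ℕ}
  (M : Mo A0 Ap Zp π Y₀ φ w σ χ n)
include M

/-- `π` as a homomorphism -/
def Mo.hom : Ap →* Y := MonoidHom.mk' (fun a => π a) fun a b => M.mul a a.2 b b.2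

theorem Mo.π1 : π 1 = 1 := map_one M.hom

theorem Mo.πinv {a : A} (ha : a ∈ Ap) : π a⁻¹ = (π a)⁻¹ := map_inv M.hom ⟨a, ha⟩

theorem Mo.πcj {a b : A} (ha : a ∈ Ap) (hb : b ∈ Ap) : π (a * b * a⁻¹) = π a * π b * (π a)⁻¹ := by
  rw [M.mul _ (mul_mem ha hb) _ (inv_mem ha), M.mul _ ha _ hb, M.πinv ha]

theorem Mo.inj : Function.Injective χ := fun a b e => M.F.inj (by rw [← M.πχ, e, M.πχ])

theorem Mo.two_χ (s : S) : Two (χ s) :=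
  ⟨7, by rw [← map_pow, show 2 ^ 7 = Nat.card S from card_S.symm, pow_card_eq_one', map_one]⟩

theorem Mo.sq {s : S} (h : s * s = 1) : χ s * χ s = 1 := by rw [← map_mul, h, map_one]

theorem Mo.ne {s : S} (h : s ≠ 1) : χ s ≠ 1 := fun e => h (M.inj (by rw [e, map_one]))

theorem Mo.com {a b : S} (h : a * b = b * a) : χ a * χ b = χ b * χ a := by
  rw [← map_mul, h, map_mul]

theorem Mo.nrm : A0.Normal := idx_normal M.idx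

theorem Mo.cen (y : A) (h : ∀ a ∈ A0, y * a = a * y) : y = 1 := by
  refine (M.cz y fun a ha _ => h a ha).resolve_right ?_
  rintro rfl
  obtain ⟨k, hk, e1⟩ := M.cls _ (M.χ0 (e 2)) (M.sq (U1_sq _ d_U1)) (M.ne (BD.of (by decide +kernel)))
  rw [conj_eq_iff.2 (h k hk).symm] at e1
  exact BD.of (p := (e 1 : S) ≠ e 2) (by decide +kernel) (M.inj e1)

theorem Mo.eq_of_two {a b : A} (ha : a ∈ Ap) (hb : b ∈ Ap) (a2 : Two a) (b2 : Two b) (e : π a = π b)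
    (h0 : π a ∈ Y₀) : a = b := by
  have h1 : a⁻¹ * b ∈ Zp := (M.ker _ (mul_mem (inv_mem ha) hb)).1 (by
    rw [M.mul _ (inv_mem ha) _ hb, M.πinv ha, e, inv_mul_cancel])
  have h2 : Commute a b := by
    have := (show Commute (a⁻¹ * b) a from M.Zc _ h1 a ha h0).symm
    simpa using (Commute.refl a).mul_right this
  exact inv_mul_eq_one.1 ((a2.inv.mul b2 h2.inv_left).eq_one (Sol.odd_of_mem M.oddZ h1))

theorem Mo.cjχ {k : A} (hk : k ∈ Ap) {a b : S} (h : π k * φ a * (π k)⁻¹ = φ b) :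
    k * χ a * k⁻¹ = χ b := by
  have h1 : π (k * χ a * k⁻¹) = φ b := by rw [M.πcj hk (M.χp a), M.πχ, h]
  exact M.eq_of_two (mul_mem (mul_mem hk (M.χp a)) (inv_mem hk)) (M.χp b) ((M.two_χ a).conj k)
    (M.two_χ b) (h1.trans (M.πχ b).symm) (h1 ▸ M.F.toFx.φm b)

theorem Mo.tr {V : Subgroup S} (hV : V = U1 ∨ V = U2) {a b : S} (ha : a ∈ V) (hb : b ∈ V)
    (a1 : a ≠ 1) (b1 : b ≠ 1) (ab : a ≠ b) :
    ∃ k ∈ Y₀, k * φ (e 1) * k⁻¹ = φ a ∧ k * φ (e 2) * k⁻¹ = φ b := by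
  rcases hV with rfl | rfl
  · obtain ⟨k, hk, h⟩ := M.F.toCf.tr2 ha hb a1 b1 ab
    exact ⟨k, M.F.mem (mem_inf.1 hk).1, h⟩
  · have i : Function.Injective β := Function.LeftInverse.injective β_β
    have n : ∀ a : S, a ≠ 1 → β a ≠ 1 := fun a h e => h (i (e.trans (map_one βh).symm))
    obtain ⟨k, hk, h1, h2⟩ := M.F.fy.swap.toCf.tr2 ((β_U1 a).2 ha) ((β_U1 b).2 hb) (n a a1) (n b b1)
      fun e => ab (i e)
    obtain ⟨l, hl, h3, h4⟩ := M.F.toCf.tr2 (b := β (e 2)) z_U1 (BD.of (by decide +kernel)) z_ne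
      (BD.of (by decide +kernel)) (BD.of (by decide +kernel))
    simp only [MonoidHom.comp_apply, βh_apply, β_β, β_z] at h1 h2
    refine ⟨k * l, mul_mem (M.F.fy.swap.mem (mem_inf.1 hk).1) (M.F.mem (mem_inf.1 hl).1), ?_, ?_⟩
    · rw [← h1, ← congrArg (fun x => k * x * k⁻¹) h3]; group
    · rw [← h2, ← h4]; group

/-- `y χ (e 1) y⁻¹ = χ a`, `y χ (e 2) y⁻¹ = χ b` with `a, b` both in `U1` or both in `U2` (`two16`). By `tr2` (for `U2`: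
`F.fy.swap.tr2`, applied to `(β a, β b)` and to `(e 1, β (e 2))`) there is `k ∈ Y₀` mapping `φ (e 1), φ (e 2)` to `φ a, φ b`; lift it
to `Ap` (`sur`, `eq_of_two`); then `k⁻¹ y` centralises `χ (e 1)` and `χ (e 2)`, use `l1`. The same for `U2`. -/
theorem Mo.loc {y : A} (h : cj(y, U1.map χ) ≤ χ.range ∨ cj(y, U2.map χ) ≤ χ.range) : y ∈ Ap := by
  obtain ⟨U, hU, h⟩ : ∃ U, (U = U1 ∨ U = U2) ∧ cj(y, U.map χ) ≤ χ.range :=
    h.elim (fun h => ⟨_, Or.inl rfl, h⟩) fun h => ⟨_, Or.inr rfl, h⟩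
  obtain ⟨u1, u2, u3, u4, u5⟩ : e 1 ∈ U ∧ e 2 ∈ U ∧ Nat.card U = 16 ∧ (∀ a ∈ U, a * a = 1) ∧
      ∀ a ∈ U, ∀ b ∈ U, a * b = b * a := by
    rcases hU with rfl | rfl
    exacts [⟨z_U1, d_U1, card_U1, U1_sq, U1_com⟩,
      ⟨z_U2, BD.of (by decide +kernel), card_U2, U2_sq, U2_com⟩]
  have hV := two16 (U := cj(y, U.map χ).comap χ) (by
    rintro a ⟨_, ⟨u, hu, rfl⟩, e1⟩
    exact M.inj (by rw [map_mul, ← e1, map_one]; exact conj_sq (M.sq (u4 u hu)))) (by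
    rintro a ⟨_, ⟨u, hu, rfl⟩, e1⟩ b ⟨_, ⟨v, hv, rfl⟩, e2⟩
    exact M.inj (by rw [map_mul, map_mul, ← e1, ← e2]; exact conj_comm (M.com (u5 u hu v hv)))) (by
    rw [← card_map' M.inj, map_comap_eq_self h, card_cj, card_map' M.inj, u3])
  obtain ⟨a, ha⟩ := h (conj_mem_cj y ⟨_, u1, rfl⟩)
  obtain ⟨b, hb⟩ := h (conj_mem_cj y ⟨_, u2, rfl⟩)
  have n : ∀ {s t : S}, χ s = y * χ t * y⁻¹ → t ≠ 1 → s ≠ 1 := fun e1 t1 e2 =>
    M.ne t1 (by rwa [e2, map_one, eq_comm, conj_eq_one_iff] at e1)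
  have d1 : (e 2 : S) ≠ 1 := BD.of (by decide +kernel)
  have d2 : (e 2 : S) ≠ e 1 := BD.of (by decide +kernel)
  obtain ⟨k, hk, h1, h2⟩ := M.tr hV (a := a) (b := b) (mem_comap.2 (ha ▸ conj_mem_cj y ⟨_, u1, rfl⟩))
    (mem_comap.2 (hb ▸ conj_mem_cj y ⟨_, u2, rfl⟩)) (n ha z_ne) (n hb d1)
    fun e1 => d2 (M.inj (conj_inj (g := y) (by rw [← ha, ← hb, e1])))
  obtain ⟨l, hl, rfl⟩ := M.sur k hk
  have c : ∀ {s t : S}, χ s = y * χ t * y⁻¹ → π l * φ t * (π l)⁻¹ = φ s →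
      l⁻¹ * y * χ t = χ t * (l⁻¹ * y) := fun {s t} e1 e2 => by
    calc _ = l⁻¹ * (y * χ t * y⁻¹) * y := by group
      _ = _ := by rw [← e1, ← M.cjχ hl e2]; group
  simpa using mul_mem hl (M.l1 _ (c ha h1) (e 2) (U1_sq _ d_U1) d1 d2 (c hb h2))

theorem Mo.flip_cj {a c y : A} (hc : c * y = y * c)
    (h : ∃ k ∈ A0, k * y = y * k ∧ k * (c * a * c⁻¹) * k⁻¹ = c * a * c⁻¹ * y) :
    ∃ k ∈ A0, k * y = y * k ∧ k * a * k⁻¹ = a * y := by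
  obtain ⟨k, h1, h2, h3⟩ := h
  refine ⟨c⁻¹ * k * c, M.nrm.conj_mem' k h1 c,
    (((show Commute c y from hc).inv_left.mul_left h2).mul_left hc :), ?_⟩
  calc _ = c⁻¹ * (k * (c * a * c⁻¹) * k⁻¹) * c := by group
    _ = a * (c⁻¹ * (y * c)) := by rw [h3]; group
    _ = _ := by rw [← hc]; group

theorem Mo.flip_N {a : A} (a2 : a * a = 1) (a1 : a ≠ 1) (az : a ≠ χ (e 1)) (hn : a ∈ 𝐍[χ.range]) :
    ∃ k ∈ A0, k * χ (e 1) = χ (e 1) * k ∧ k * a * k⁻¹ = a * χ (e 1) := by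
  have F := M.F.toFx
  have ap : a ∈ Ap := M.loc (Or.inl (cj_le_of_mem_normalizer (map_le_range _ _) hn))
  have b2 : π a * π a = 1 := by rw [← M.mul _ ap _ ap, a2, M.π1]
  have bn : π a ∈ 𝐍[φ.range] := mem_normalizer_of_cj_le (cj_le_iff_forall.2 (by
    rintro _ ⟨s, rfl⟩
    obtain ⟨t, ht⟩ := conj_mem_of_mem_normalizer hn ⟨s, rfl⟩
    exact ⟨t, by rw [← M.πχ, ht, M.πcj ap (M.χp s), M.πχ]⟩))
  have bp : IsPGroup 2 (zpowers (π a)) := (Sol.two_of_sq b2).pg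
  by_cases h0 : π a ∈ Y₀
  · obtain ⟨s, hs⟩ := F.syl.le_of_normalizes bp (zpowers_le.2 h0) (zpowers_le.2 bn) (mem_zpowers _)
    obtain rfl : a = χ s :=
      M.eq_of_two ap (M.χp s) (Sol.two_of_sq a2) (M.two_χ s) (by rw [M.πχ, hs]) h0
    obtain rfl | rfl | ⟨g, hg⟩ := BD.of (p := ∀ s : S, s * s = 1 → s = 1 ∨ s = e 1 ∨
      ∃ g : S, g * s * g⁻¹ = s * e 1) (by decide +kernel) s (M.inj (by rw [map_mul, a2, map_one]))
    · exact absurd (map_one χ) a1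
    · exact absurd rfl az
    · exact ⟨χ g, M.χ0 g, M.com (z_cen g), by rw [← map_inv, ← map_mul, ← map_mul, hg, map_mul]⟩
  have sn : σ ∈ 𝐍[φ.range] := mem_normalizer_of_cj_le (cj_le_iff_forall.2 (by
    rintro _ ⟨s, rfl⟩; exact ⟨_, (M.F.σφ s).symm⟩))
  obtain ⟨R, hR, sR⟩ := exists_isSyl_ge (Sol.two_of_sq M.F.σσ).pg (zpowers_le.2 sn)
  have sR := sR (mem_zpowers σ)
  obtain ⟨g, g1, g2, g3⟩ : ∃ g ∈ 𝐍[φ.range], g * π a * g⁻¹ ∈ R ∧ g ∈ Y₀ := by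
    obtain ⟨g, g1, g2⟩ := hR.exists_cj_le bp (zpowers_le.2 bn)
    have g2 := g2 (conj_mem_cj g (mem_zpowers _))
    by_cases g3 : g ∈ Y₀
    · exact ⟨g, g1, g2, g3⟩
    · exact ⟨σ * g, mul_mem sn g1, by
        simpa [mul_assoc] using mul_mem (mul_mem sR g2) (inv_mem sR), F.idx _ _ M.F.σn g3⟩
  obtain ⟨s, hs⟩ : g * π a * g⁻¹ * σ ∈ φ.range :=
    F.syl.le_of_normalizes (hR.pgrp.to_inf_left (K := Y₀)) inf_le_right (inf_le_left.trans hR.le)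
      (mem_inf.2 ⟨mul_mem g2 sR, F.idx _ _ (fun h => h0 (by
        simpa [mul_assoc] using F.nrm.conj_mem' _ h g)) M.F.σn⟩)
  obtain ⟨l, hl, rfl⟩ := M.sur g g3
  have lz : l * χ (e 1) * l⁻¹ = χ (e 1) := M.cjχ hl (by
    obtain ⟨u, hu⟩ := conj_mem_of_mem_normalizer g1 ⟨e 1, rfl⟩
    rcases cen_S u fun t _ => F.toCf.com.1 (by
      obtain ⟨v, hv⟩ := inv_conj_mem_of_mem_normalizer g1 ⟨t, rfl⟩
      rw [hu, show φ t = π l * φ v * (π l)⁻¹ by rw [hv]; group]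
      exact conj_comm (F.toCf.com.2 (z_cen v))) with rfl | rfl
    · exact absurd (by rwa [map_one, eq_comm, conj_eq_one_iff] at hu) F.z1
    · exact hu.symm)
  refine M.flip_cj (conj_eq_iff.1 lz) ?_
  have ap' : l * a * l⁻¹ ∈ Ap := mul_mem (mul_mem hl ap) (inv_mem hl)
  have e1 : π (l * a * l⁻¹) = φ s * σ := by rw [M.πcj hl ap, hs, mul_assoc _ σ, M.F.σσ, mul_one]
  have e2 : l * a * l⁻¹ * (l * a * l⁻¹) = 1 := conj_sq a2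
  generalize l * a * l⁻¹ = b at *
  have e3 : ∀ t, b * χ t * b⁻¹ = χ (s * β t * s⁻¹) := fun t => M.cjχ ap' (by
    rw [e1, map_mul, map_mul, map_inv, ← M.F.σφ]; group)
  obtain ⟨t, ht⟩ := BD.of (p := ∀ s : S, s * β s = 1 → ∃ g : S, g * (s * β g⁻¹ * s⁻¹) = e 1)
    (by decide +kernel) s (F.inj (by
      rw [map_mul, ← M.F.σφ, inv_eq_of_sq M.F.σσ, map_one, ← M.π1, ← e2, M.mul _ ap' _ ap', e1]
      group))
  have e4 := e3 (e 1)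
  rw [β_z, conj_eq_iff.2 (z_cen s), conj_eq_iff] at e4
  refine ⟨χ t, M.χ0 t, M.com (z_cen t), ?_⟩
  rw [e4, ← ht, map_mul, ← e3, map_inv]; group

theorem Mo.flip {a : A} (a2 : a * a = 1) (c : a * χ (e 1) = χ (e 1) * a) (a1 : a ≠ 1)
    (az : a ≠ χ (e 1)) : ∃ k ∈ A0, k * χ (e 1) = χ (e 1) * k ∧ k * a * k⁻¹ = a * χ (e 1) := by
  have hT : IsPGroup 2 χ.range := isPGroup_iff.2 (by rintro _ ⟨s, rfl⟩; exact M.two_χ s)
  obtain ⟨P, hP, TP⟩ := exists_isSyl_ge (L := 𝐳[χ (e 1)]) hT (by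
    rintro _ ⟨s, rfl⟩; exact mem_z.2 (M.com (z_cen s)))
  obtain ⟨g, g1, g2⟩ := hP.exists_cj_le (Sol.two_of_sq a2).pg (zpowers_le.2 (mem_z.2 c))
  have PN : P ≤ 𝐍[χ.range] := by
    rcases TP.eq_or_lt with rfl | h
    · exact le_normalizer
    have h1 := lt_inf_normalizer hP.pgrp h
    have h2 := clt h1
    obtain ⟨m, hm⟩ := card_dvd_of_le h1.le
    have h3 := M.two P hP.pgrp
    rw [← Nat.card_congr (MonoidHom.ofInjective M.inj).toEquiv, card_S] at h2 hm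
    exact (eq_of_le_of_card_ge inf_le_left (by omega)).ge.trans inf_le_right
  exact M.flip_cj (mem_z.1 g1) (M.flip_N (conj_sq a2) (fun h => a1 (conj_eq_one_iff.1 h))
    (fun h => az (conj_inj (g := g) (h.trans (conj_eq_iff.2 (mem_z.1 g1)).symm)))
    (PN (g2 (conj_mem_cj g (mem_zpowers a)))))

theorem Mo.cz' {y x : A} (hy : y ∈ A0) (y2 : Invol y) (h : ∀ a ∈ A0, a * y = y * a → x * a = a * x) :
    x = 1 ∨ x = y := by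
  obtain ⟨k, hk, rfl⟩ := M.cls y hy y2.2 y2.1
  refine (M.cz (k⁻¹ * x * k) fun a ha e1 => ?_).imp cj1 fun e1 => by rw [← e1]; group
  simpa [mul_assoc] using conj_comm (g := k⁻¹) (h _ (M.nrm.conj_mem a ha k) (conj_comm e1))

theorem Mo.flip' {y a : A} (hy : y ∈ A0) (y2 : Invol y) (a2 : a * a = 1) (c : a * y = y * a)
    (a1 : a ≠ 1) (ay : a ≠ y) : ∃ k ∈ A0, k * y = y * k ∧ k * a * k⁻¹ = a * y := by
  obtain ⟨k, hk, rfl⟩ := M.cls y hy y2.2 y2.1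
  obtain ⟨l, l1, l2, l3⟩ := M.flip (a := k⁻¹ * a * k) (by simpa using conj_sq (g := k⁻¹) a2)
    (by simpa [mul_assoc] using conj_comm (g := k⁻¹) c) (fun h => a1 (cj1 h))
    fun h => ay (by rw [← h]; group)
  refine ⟨k * l * k⁻¹, M.nrm.conj_mem l l1 k, conj_comm l2, ?_⟩
  calc _ = k * (l * (k⁻¹ * a * k) * l⁻¹) * k⁻¹ := by group
    _ = _ := by rw [l3]; group

theorem Mo.cov' {y : A} (hy : y ∈ A0) (y2 : Invol y) :
    IsNonsplitDoubleCover ↥(A0 ⊓ 𝐳[y]) (alternatingGroup (Fin n)) := by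
  obtain ⟨k, hk, rfl⟩ := M.cls y hy y2.2 y2.1
  rw [centralizer_singleton_conj, ← cj_of_mem hk, ← cj_inf]
  exact Comp.BN.nonsplit_congr ((MulAut.conj k).subgroupMap _) (MulEquiv.refl _) M.cov

end

variable {G : Type*} [Group G] [Finite G] {K : Subgroup G}

theorem Qk_le_N (K : Subgroup G) : Qk K ≤ 𝐍[K] := by
  exact fun g hg => mem_normalizer_of_cj_le (cj_le_iff_forall.2 fun k hk => by
    simpa [commutatorElement_def] using mul_mem (ppcOf_le 2 K (hg.2 k hk)) hk)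

theorem N_le_N_Qk (K : Subgroup G) : 𝐍[K] ≤ 𝐍[Qk K] := by
  have key : ∀ g ∈ 𝐍[K], g ∈ 𝐍[Ox K] := fun g hg => by
    rw [← cj_eq_iff, ← Sol.Ox_cj, cj_of_mem_normalizer hg]
  refine fun g hg => mem_normalizer_of_cj_le (cj_le_iff_forall.2 fun x hx =>
    ⟨key _ (mul_mem (mul_mem hg (Qk_le_N K hx)) (inv_mem hg)), fun k hk => ?_⟩)
  have := conj_mem_of_mem_normalizer (key g hg) (hx.2 _ (inv_conj_mem_of_mem_normalizer hg hk))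
  simpa [commutatorElement_def, mul_assoc] using this

theorem Qk_cj (g : G) (K : Subgroup G) : Qk cj(g, K) = cj(g, Qk K) := by
  ext x
  rw [mem_cj, Sol.mem_modO, Sol.mem_modO, Sol.Ox_cj, normalizer_cj, mem_cj]
  refine and_congr_right fun _ => ⟨fun h k hk => ?_, fun h k hk => ?_⟩
  · simpa [commutatorElement_def, mul_assoc] using mem_cj.1 (h _ (conj_mem_cj g hk))
  · exact mem_cj.2 (by simpa [commutatorElement_def, mul_assoc] using h _ (mem_cj.1 hk))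

theorem TM.cj (h : TM K) (g : G) : TM cj(g, K) := by
  exact (tm_iff ((MulAut.conj g).subgroupMap K).toMonoidHom (MulEquiv.surjective _) fun a e1 => by
    rw [(map_eq_one_iff _ (MulEquiv.injective _)).1 e1, orderOf_one]; exact odd_one).1 h

theorem N_le_N_Ox (K : Subgroup G) : 𝐍[K] ≤ 𝐍[Ox K] := fun g hg => by
  rw [← cj_eq_iff, ← Sol.Ox_cj, cj_of_mem_normalizer hg]

namespace Ac
variable {A : Type*} [Group A] {α : G → A} {A0 : Subgroup A} (h : Ac K (Ox K) α A0)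
include h

theorem mem_Qk {g : G} : g ∈ Qk K ↔ g ∈ 𝐍[K] ∧ α g = 1 :=
  ⟨fun e1 => ⟨Qk_le_N K e1, (h.ker g (Qk_le_N K e1)).2 e1.2⟩,
    fun e1 => ⟨N_le_N_Ox K e1.1, (h.ker g e1.1).1 e1.2⟩⟩

theorem inr {g : G} (hg : g ∈ 𝐍[K]) : Inr K g ↔ α g ∈ A0 := by
  refine ⟨fun ⟨k, hk, e1⟩ => ?_, fun e1 => ?_⟩
  · have := (h.mem_Qk.1 e1).2
    rw [h.mul g hg k (le_normalizer hk), mul_eq_one_iff_eq_inv] at this
    exact this ▸ inv_mem (h.mem k hk)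
  · obtain ⟨k, hk, e2⟩ := h.sur _ (inv_mem e1)
    exact ⟨k, hk, h.mem_Qk.2 ⟨mul_mem hg (le_normalizer hk), by
      rw [h.mul g hg k (le_normalizer hk), e2, mul_inv_cancel]⟩⟩

theorem sq {g : G} (hg : g ∈ 𝐍[K]) (g2 : g * g = 1) : α g * α g = 1 := by
  rw [← h.mul g hg g hg, g2, h.one]

theorem com {a b : G} (ha : a ∈ 𝐍[K]) (hb : b ∈ 𝐍[K]) (c : a * b = b * a) :
    α a * α b = α b * α a := by rw [← h.mul a ha b hb, c, h.mul b hb a ha]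

theorem invol {z : G} (hz : z ∈ K) (z2 : Invol z) : Invol (α z) :=
  ⟨fun e1 => z2.1 ((Sol.two_of_sq z2.2).eq_one (Sol.odd_O ((h.kerK z hz).1 e1))),
    h.sq (le_normalizer hz) z2.2⟩

/-- the elements whose image commutes with `y` -/
def cF (y : A) : Subgroup G := (𝐳[y].comap h.hom).map (𝐍[K]).subtype

theorem mem_cF {y : A} {g : G} : g ∈ h.cF y ↔ g ∈ 𝐍[K] ∧ α g * y = y * α g :=
  ⟨fun ⟨a, e1, e2⟩ => e2 ▸ ⟨a.2, mem_z.1 (mem_comap.1 e1)⟩,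
    fun e1 => ⟨⟨g, e1.1⟩, mem_comap.2 (mem_z.2 e1.2), rfl⟩⟩

theorem liftc {P : Subgroup G} (hP : IsPGroup 2 P) {y : A} (hy : y ∈ A0) (c : P ≤ h.cF y) :
    ∃ k ∈ K, α k = y ∧ ∀ p ∈ P, p * k = k * p :=
  h.lift (Sol.odd_Ox K) (N_le_N_Ox K) hP (fun _ hp => (h.mem_cF.1 (c hp)).1) hy
    fun _ hp => (h.mem_cF.1 (c hp)).2

theorem liftc2 {P : Subgroup G} (hP : IsPGroup 2 P) {y : A} (hy : y ∈ A0) (c : P ≤ h.cF y)
    (y2 : Invol y) : ∃ k ∈ K, α k = y ∧ Invol k ∧ ∀ p ∈ P, p * k = k * p := by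
  obtain ⟨k, k1, k2, k3, k4⟩ := h.lift2 (Sol.odd_Ox K) (N_le_N_Ox K) hP
    (fun _ hp => (h.mem_cF.1 (c hp)).1) hy (fun _ hp => (h.mem_cF.1 (c hp)).2) y2.2
  exact ⟨k, k1, k2, ⟨fun e1 => y2.1 (by rw [← k2, e1, h.one]), k3⟩, k4⟩

theorem liftz {z : G} (hz : z ∈ K) (z2 : Invol z) {y : A} (hy : y ∈ A0) (c : y * α z = α z * y) :
    ∃ k ∈ K, α k = y ∧ k * z = z * k := by
  obtain ⟨k, k1, k2, k3⟩ := h.liftc (Sol.two_of_sq z2.2).pg hy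
    (zpowers_le.2 (h.mem_cF.2 ⟨le_normalizer hz, c.symm⟩))
  exact ⟨k, k1, k2, (k3 z (mem_zpowers z)).symm⟩

end Ac

theorem TM.model (h : TM K) : ∃ (A Y : Type) (_ : Group A) (_ : Group Y) (_ : Finite A) (_ : Finite Y)
    (A0 Ap Zp : Subgroup A) (π : A → Y) (Y₀ : Subgroup Y) (φ : S →* Y) (w : ℕ → Y) (σ : Y)
    (χ : S →* A) (n : ℕ) (α : G → A), Mo A0 Ap Zp π Y₀ φ w σ χ n ∧ Ac K (Ox K) α A0 := by
  obtain ⟨A, Y, _, _, _, _, A0, Ap, Zp, π, Y₀, φ, w, σ, χ, n, M, ⟨q⟩⟩ : MoX (K ⧸ pPrimeCore 2 K) := by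
    rcases h with ⟨⟨r⟩⟩ | ⟨⟨r⟩⟩
    · obtain ⟨A, Y, _, _, _, _, A0, Ap, Zp, π, Y₀, φ, w, σ, χ, n, M, ⟨q⟩⟩ := moMcL
      exact ⟨A, Y, _, _, ‹_›, ‹_›, A0, Ap, Zp, π, Y₀, φ, w, σ, χ, n, M, ⟨r.trans q⟩⟩
    · obtain ⟨A, Y, _, _, _, _, A0, Ap, Zp, π, Y₀, φ, w, σ, χ, n, M, ⟨q⟩⟩ := moLy
      exact ⟨A, Y, _, _, ‹_›, ‹_›, A0, Ap, Zp, π, Y₀, φ, w, σ, χ, n, M, ⟨r.trans q⟩⟩
  obtain ⟨α, hα, -⟩ := exists_ac (N := Ox K) (A0 := A0)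
    (A0.subtype.comp (q.toMonoidHom.comp (QuotientGroup.mk' _))) (by
      rw [MonoidHom.range_comp, MonoidHom.range_eq_top.2
        (q.surjective.comp (QuotientGroup.mk'_surjective _)), ← MonoidHom.range_eq_map, range_subtype])
    (fun k => by simp [mem_map_subtype])
    (fun m hm k _ hk => conj_mem_of_mem_normalizer (N_le_N_Ox K hm) hk) M.aut M.cen
  exact ⟨A, Y, _, _, ‹_›, ‹_›, A0, Ap, Zp, π, Y₀, φ, w, σ, χ, n, α, M, hα⟩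

/-- a subgroup that covers `K / O(K)` (`tm_iff` twice) -/
theorem TM.cover (h : TM K) {M : Subgroup G} (h1 : M ≤ K) (h2 : K ≤ M ⊔ Ox K) :
    TM M ∧ Ox M = Ox K ⊓ M := by
  have nO : M ≤ 𝐍[Ox K] := fun g hg => Sol.nO (h1 hg)
  refine ⟨?_, le_antisymm (le_inf (ppcOf_le_of_le_sup h1 h2) (ppcOf_le 2 M)) (Sol.le_Ox inf_le_right
    (le_normalizer_inf nO le_normalizer) (Sol.odd_le (Sol.odd_Ox K) inf_le_left))⟩
  have odd : ∀ a : K, QuotientGroup.mk' (pPrimeCore 2 K) a = 1 → Odd (orderOf (a : G)) := fun a e1 =>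
    Sol.odd_O ⟨a, (QuotientGroup.eq_one_iff a).1 e1, rfl⟩
  refine (tm_iff ((QuotientGroup.mk' (pPrimeCore 2 K)).comp (inclusion h1)) (fun y => ?_)
    fun a e1 => by rw [← Subgroup.orderOf_coe]; exact odd _ e1).2
    ((tm_iff _ (QuotientGroup.mk'_surjective _) fun a e1 => by
      rw [← Subgroup.orderOf_coe]; exact odd _ e1).1 h)
  obtain ⟨k, rfl⟩ := QuotientGroup.mk'_surjective _ y
  obtain ⟨m, hm, _, ⟨o, ho, rfl⟩, e1⟩ := (mem_sup_of_le_normalizer_right nO).1 (h2 k.2)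
  refine ⟨⟨m, hm⟩, QuotientGroup.eq.2 ?_⟩
  rwa [show (inclusion h1 ⟨m, hm⟩)⁻¹ * k = o from Subtype.ext (by simp [e1])]

theorem TM.KQ (h : TM K) {k : G} (hk : k ∈ K) (hq : k ∈ Qk K) : k ∈ Ox K := by
  obtain ⟨A, Y, _, _, _, _, A0, Ap, Zp, π, Y₀, φ, w, σ, χ, n, α, M, hα⟩ := h.model
  exact (hα.kerK k hk).1 (hα.mem_Qk.1 hq).2

theorem TM.four (h : TM K) : ∃ u ∈ K, ∃ v ∈ K, Invol u ∧ Invol v ∧ u ≠ v ∧ u * v = v * u := by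
  obtain ⟨A, Y, _, _, _, _, A0, Ap, Zp, π, Y₀, φ, w, σ, χ, n, α, M, hα⟩ := h.model
  obtain ⟨u, u1, u2, u3, -⟩ := hα.liftc2 IsPGroup.of_bot (M.χ0 (e 1)) bot_le ⟨M.ne z_ne, M.sq z_sq⟩
  obtain ⟨v, v1, v2, v3, v4⟩ := hα.liftc2 (Sol.two_of_sq u3.2).pg (M.χ0 (e 2))
    (zpowers_le.2 (hα.mem_cF.2 ⟨le_normalizer u1, u2 ▸ M.com (z_cen _).symm⟩))
    ⟨M.ne (BD.of (by decide +kernel)), M.sq (U1_sq _ d_U1)⟩
  exact ⟨u, u1, v, v1, u3, v3, fun e1 => BD.of (p := (e 1 : S) ≠ e 2) (by decide +kernel)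
    (M.inj (by rw [← u2, ← v2, e1])), v4 u (mem_zpowers u)⟩

/-- a Sylow 2-subgroup of `K ⊔ P` containing `P` meets `K` in a non-trivial normal subgroup -/
theorem TM.exists_inv (h : TM K) {P : Subgroup G} (hP : IsPGroup 2 P) (hn : P ≤ 𝐍[K]) :
    ∃ z ∈ K, Invol z ∧ ∀ p ∈ P, Commute p z := by
  obtain ⟨u, u1, -, -, u2, -⟩ := h.four
  obtain ⟨T, hT, PT⟩ := exists_isSyl_ge (L := K ⊔ P) hP le_sup_right
  have h1 := hT.inf_of_le le_sup_left (sup_le le_normalizer hn)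
  have h2 := inf_centralizer_ne_bot hP h1.pgrp (le_normalizer_inf (PT.trans le_normalizer) hn)
    fun e1 => h1.eq_bot_iff.1 e1 (ord2 u2.2 u2.1 ▸ Subgroup.orderOf_dvd_natCard K u1)
  obtain ⟨⟨x, hx⟩, x1⟩ := ne_bot_iff_exists_ne_one.1 h2
  obtain ⟨m, m1, m2⟩ := Tw.inv_pow (Sol.two_of_mem h1.pgrp (mem_inf.1 hx).1)
    fun e1 => x1 (Subtype.ext e1)
  have := mem_inf.1 (pow_mem hx m)
  exact ⟨_, (mem_inf.1 this.1).2, ⟨m2, m1⟩, mem_C.1 this.2⟩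

theorem TM.conj_inv (h : TM K) {a b : G} (ha : a ∈ K) (hb : b ∈ K) (a2 : Invol a) (b2 : Invol b) :
    ∃ k ∈ K, k * a * k⁻¹ = b := by
  obtain ⟨A, Y, _, _, _, _, A0, Ap, Zp, π, Y₀, φ, w, σ, χ, n, α, M, hα⟩ := h.model
  obtain ⟨k1, h1, e1⟩ := M.cls _ (hα.mem a ha) (hα.invol ha a2).2 (hα.invol ha a2).1
  obtain ⟨k2, h2, e2⟩ := M.cls _ (hα.mem b hb) (hα.invol hb b2).2 (hα.invol hb b2).1
  obtain ⟨k, hk, e3⟩ := hα.sur _ (mul_mem h2 (inv_mem h1))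
  have h3 : k * a * k⁻¹ ∈ K := mul_mem (mul_mem hk ha) (inv_mem hk)
  obtain ⟨g, hg, e4⟩ := Sol.conj_of_odd (conj_sq (g := k) a2.2) b2.2
    (Sol.odd_O ((hα.kerK _ (mul_mem h3 hb)).1 (by
      rw [hα.mul _ (le_normalizer h3) _ (le_normalizer hb), hα.conj (le_normalizer hk)
        (le_normalizer ha), e3, ← e1, ← (hα.invol hb b2).2, ← e2]; group)))
  exact ⟨g * k, mul_mem (zpowers_le.2 (mul_mem h3 hb) hg) hk, by rw [← e4]; group⟩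

theorem TM.mov (h : TM K) {z : G} (hz : z ∈ K) (z2 : Invol z) :
    ∃ g ∈ K, Commute (g * z * g⁻¹) z ∧ g * z * g⁻¹ ≠ z := by
  obtain ⟨u, u1, v, v1, u2, v2, uv, c⟩ := h.four
  obtain ⟨k, hk, rfl⟩ := h.conj_inv u1 hz u2 z2
  obtain ⟨g, hg, e1⟩ := h.conj_inv hz (mul_mem (mul_mem hk v1) (inv_mem hk)) z2
    ⟨fun e1 => v2.1 (conj_eq_one_iff.1 e1), conj_sq v2.2⟩
  exact ⟨g, hg, e1 ▸ conj_comm c.symm, e1 ▸ fun e2 => uv (conj_inj e2).symm⟩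

/-- `α` maps `K ⊓ C z` onto `A0 ⊓ C (α z) = 2.A_n` (`Ac.lift`) with odd kernel `Ox K ⊓ C z`; `odd_normal` gives
`Ox (K ⊓ C z) ≤ Ox K`; `qs_of_cover` and `exists_pcomp_map_eq_comp` give `L` (see `S3100.result` for `z ∈ L` and `DC`,
or use `Sol.mem_of_two`). -/
theorem TM.cent (h : TM K) {z : G} (hz : z ∈ K) (z2 : Invol z) : ∃ L n, IC K z L n ∧
    K ⊓ C z ≤ L ⊔ (Ox K ⊓ C z) ∧ Ox (K ⊓ C z) ≤ Ox K := by
  obtain ⟨A, Y, _, _, _, _, A0, Ap, Zp, π, Y₀, φ, w, σ, χ, n, α, M, hα⟩ := h.model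
  have y2 := hα.invol hz z2
  have cov := M.cov' (hα.mem z hz) y2
  have hN : ∀ a : ↥(K ⊓ C z), (a : G) ∈ 𝐍[K] := fun a => le_normalizer (mem_inf.1 a.2).1
  let f : ↥(K ⊓ C z) →* ↥(A0 ⊓ 𝐳[α z]) := MonoidHom.mk' (fun a => ⟨α a, mem_inf.2
    ⟨hα.mem _ (mem_inf.1 a.2).1, mem_z.2 (hα.com (hN a) (le_normalizer hz) (mem_z.1 (mem_inf.1 a.2).2))⟩⟩)
    fun a b => Subtype.ext (hα.mul _ (hN a) _ (hN b))
  have hf : Function.Surjective f := fun y => by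
    obtain ⟨k, k1, k2, k3⟩ := hα.liftz hz z2 (mem_inf.1 y.2).1 (mem_z.1 (mem_inf.1 y.2).2)
    exact ⟨⟨k, mem_inf.2 ⟨k1, mem_z.2 k3⟩⟩, Subtype.ext k2⟩
  have ker : ∀ a, f a = 1 → (a : G) ∈ Ox K := fun a e1 =>
    (hα.kerK _ (mem_inf.1 a.2).1).1 (congrArg Subtype.val e1)
  have odd : ∀ a, f a = 1 → Odd (orderOf a) := fun a e1 => by
    rw [← Subgroup.orderOf_coe]; exact Sol.odd_O (ker a e1)
  have hk : (Nat.card f.ker).Coprime 2 := Nat.coprime_two_right.2 (Sol.odd_card_of odd)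
  have hO := odd_normal M.n8 cov (pPrimeCore 2 _) (Nat.coprime_two_right.1 (Grp.pPrimeCore_coprime 2 _))
  obtain ⟨L, L1, L2⟩ := exists_pcomp_map_eq f hf hk (pcomp_top_of_isPQS (isPQS_of_qs
    (qs_of_cover M.n8 cov) (cov.1 ▸ card_subgroup_dvd_card _)))
  have pc : PC (L.map (K ⊓ C z).subtype) (K ⊓ C z) :=
    ⟨map_subtype_le _, by rwa [map_subtype_subgroupOf]⟩
  have le : K ⊓ C z ≤ L.map (K ⊓ C z).subtype ⊔ (Ox K ⊓ C z) := fun a ha => by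
    obtain ⟨l, l1, l2⟩ := L2.ge (mem_top (f ⟨a, ha⟩))
    have := mul_mem_sup (mem_map_of_mem (K ⊓ C z).subtype l1) (mem_inf.2 ⟨ker (l⁻¹ * ⟨a, ha⟩) (by
      rw [map_mul, map_inv, l2, inv_mul_cancel]), (mem_inf.1 (l⁻¹ * ⟨a, ha⟩).2).2⟩)
    simpa using this
  have zm : z ∈ K ⊓ C z := mem_inf.2 ⟨hz, mem_z.2 rfl⟩
  refine ⟨_, n, ⟨z2, pc, Sol.mem_of_two pc.sn (Sol.odd_le (Sol.odd_Ox K) inf_le_left)
    (le_normalizer_inf (fun g hg => Sol.nO (mem_inf.1 hg).1) (inf_le_right.trans le_normalizer))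
    (Sol.two_of_sq z2.2) zm (le zm), M.n8, ?_⟩, le, ?_⟩
  · refine (Sol.dc_iff (f.comp (inclusion pc.1)) (fun y => ?_) fun a e1 => ?_).2
      (Comp.BN.nonsplit_congr ((QuotientGroup.quotientMulEquivOfEq hO).trans
        QuotientGroup.quotientBot).symm (MulEquiv.refl _) cov)
    · obtain ⟨l, l1, l2⟩ := L2.ge (mem_top y)
      exact ⟨⟨l, l, l1, rfl⟩, l2⟩
    · rw [← Subgroup.orderOf_coe]; exact Sol.odd_O (ker _ e1)
  · rintro _ ⟨a, ha, rfl⟩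
    rw [← Grp.comap_pPrimeCore_eq_of_surjective f hf hk, hO] at ha
    exact ker a ha

/-- `α g` centralises `A0 ⊓ C (α z)`; use `Mo.cz` after conjugating `α z` to `χ (e 1)` -/
theorem TM.f1 (h : TM K) {z g : G} (hz : z ∈ K) (z2 : Invol z) (hg : g ∈ 𝐍[K]) {L : Subgroup G}
    (hL : K ⊓ C z ≤ L ⊔ Ox K) (LK : L ≤ K) (c : ∀ l ∈ L, ⁅g, l⁆ ∈ Ox K) : g ∈ Qk K ∨ g * z ∈ Qk K := by
  obtain ⟨A, Y, _, _, _, _, A0, Ap, Zp, π, Y₀, φ, w, σ, χ, n, α, M, hα⟩ := h.model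
  have y2 := hα.invol hz z2
  have zN := le_normalizer hz
  refine (M.cz' (x := α g) (hα.mem z hz) y2 fun a ha e1 => ?_).imp (fun e1 => hα.mem_Qk.2 ⟨hg, e1⟩)
    fun e1 => hα.mem_Qk.2 ⟨mul_mem hg zN, by rw [hα.mul _ hg _ zN, e1, y2.2]⟩
  obtain ⟨k, k1, rfl, k3⟩ := hα.liftz hz z2 ha e1
  obtain ⟨l, hl, o, ho, rfl⟩ := (mem_sup_of_le_normalizer_right fun _ hl => Sol.nO (LK hl)).1
    (hL (mem_inf.2 ⟨k1, mem_z.2 k3⟩))
  have lN := le_normalizer (LK hl)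
  have e2 := (hα.kerK _ (ppcOf_le 2 K (c l hl))).2 (c l hl)
  rw [commutatorElement_def, hα.mul _ (mul_mem (mul_mem hg lN) (inv_mem hg)) _ (inv_mem lN),
    hα.conj hg lN, hα.inv lN, mul_inv_eq_one, mul_inv_eq_iff_eq_mul] at e2
  rw [hα.mul _ lN _ (le_normalizer (ppcOf_le 2 K ho)), (hα.kerK _ (ppcOf_le 2 K ho)).2 ho, mul_one, e2]

/-- `Mo.flip`; lift `k` to `K ⊓ C z`; `k a k⁻¹` and `a z` are involutions of `C z` whose product lies in `K ⊓ Qk K`,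
so in `Ox K`; `Sol.conj_of_odd` -/
theorem TM.flip (h : TM K) {z a : G} (hz : z ∈ K) (z2 : Invol z) (ha : a ∈ 𝐍[K]) (a2 : a * a = 1)
    (c : Commute a z) (h1 : a ∉ Qk K) (h2 : a * z ∉ Qk K) :
    ∃ k ∈ K, Commute k z ∧ k * a * k⁻¹ = a * z := by
  obtain ⟨A, Y, _, _, _, _, A0, Ap, Zp, π, Y₀, φ, w, σ, χ, n, α, M, hα⟩ := h.model
  have y2 := hα.invol hz z2
  have zN := le_normalizer hz
  obtain ⟨y, hy, e1, e2⟩ := M.flip' (hα.mem z hz) y2 (hα.sq ha a2) (hα.com ha zN c)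
    (fun e1 => h1 (hα.mem_Qk.2 ⟨ha, e1⟩))
    fun e1 => h2 (hα.mem_Qk.2 ⟨mul_mem ha zN, by rw [hα.mul _ ha _ zN, e1, y2.2]⟩)
  obtain ⟨k, k1, rfl, k3⟩ := hα.liftz hz z2 hy e1
  have kN := le_normalizer k1
  have b2 : a * z * (a * z) = 1 := by rw [← pow_two, c.mul_pow, pow_two, pow_two, a2, z2.2, one_mul]
  have m : k * a * k⁻¹ * (a * z) ∈ K := by
    have := mul_mem (mul_mem k1 (conj_mem_of_mem_normalizer ha (inv_mem k1))) hz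
    simpa [inv_eq_of_sq a2, mul_assoc] using this
  have kc : Commute k z := k3
  have cz : Commute (k * a * k⁻¹ * (a * z)) z :=
    (Sol.conj_comm_left c kc).mul_left (c.mul_left (Commute.refl z))
  obtain ⟨g, hg, e4⟩ := Sol.conj_of_odd (conj_sq (g := k) a2) b2 (Sol.odd_O ((hα.kerK _ m).1 (by
    rw [hα.mul _ (mul_mem (mul_mem kN ha) (inv_mem kN)) _ (mul_mem ha zN), hα.conj kN ha, e2,
      ← hα.mul _ ha _ zN, hα.sq (mul_mem ha zN) b2])))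
  exact ⟨g * k, mul_mem (zpowers_le.2 m hg) k1, (mC.1 (zpowers_le.2 (mC.2 cz) hg)).mul_left kc,
    by rw [← e4]; group⟩

theorem TM.idx (h : TM K) {a b : G} (ha : a ∈ 𝐍[K]) (hb : b ∈ 𝐍[K]) (h1 : ¬ Inr K a) (h2 : ¬ Inr K b) :
    Inr K (a * b) := by
  obtain ⟨A, Y, _, _, _, _, A0, Ap, Zp, π, Y₀, φ, w, σ, χ, n, α, M, hα⟩ := h.model
  rw [hα.inr ha] at h1
  rw [hα.inr hb] at h2
  rw [hα.inr (mul_mem ha hb), hα.mul a ha b hb]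
  exact M.idx _ _ h1 h2

/-- `Ac.lift2` with `y = α a` -/
theorem TM.inner (h : TM K) {a : G} (a2 : a * a = 1) (hi : Inr K a) {P : Subgroup G}
    (hP : IsPGroup 2 P) (PN : P ≤ 𝐍[K]) (aP : a ∈ P) (c : ∀ p ∈ P, Commute p a) :
    ∃ z ∈ K, z * z = 1 ∧ (∀ p ∈ P, Commute p z) ∧ a * z ∈ Qk K := by
  obtain ⟨A, Y, _, _, _, _, A0, Ap, Zp, π, Y₀, φ, w, σ, χ, n, α, M, hα⟩ := h.model
  have ha := PN aP
  obtain ⟨z, z1, z2, z3, z4⟩ := hα.lift2 (Sol.odd_Ox K) (N_le_N_Ox K) hP PN ((hα.inr ha).1 hi)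
    (fun p hp => hα.com (PN hp) ha (c p hp)) (hα.sq ha a2)
  exact ⟨z, z1, z3, z4, hα.mem_Qk.2 ⟨mul_mem ha (le_normalizer z1), by
    rw [hα.mul _ ha _ (le_normalizer z1), z2, hα.sq ha a2]⟩⟩

/-- `Mo.four`, `Ac.lift2` twice (the second time with `P ⊔ ⟨u⟩`) -/
theorem TM.outer (h : TM K) {a : G} (ha : a ∈ 𝐍[K]) (a2 : a * a = 1) (hi : ¬ Inr K a) {P : Subgroup G}
    (hP : IsPGroup 2 P) (PQ : P ≤ Qk K) (c : ∀ p ∈ P, Commute p a) :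
    ∃ u ∈ K, ∃ v ∈ K, Invol u ∧ Invol v ∧ u ≠ v ∧ Commute u v ∧ Commute a u ∧ Commute a v ∧
      ∀ p ∈ P, Commute p u ∧ Commute p v := by
  obtain ⟨A, Y, _, _, _, _, A0, Ap, Zp, π, Y₀, φ, w, σ, χ, n, α, M, hα⟩ := h.model
  obtain ⟨x, hx, y, hy, x2, y2, x1, y1, xy, c1, c2, c3⟩ :=
    M.four _ (fun e1 => hi ((hα.inr ha).2 e1)) (hα.sq ha a2)
  have k : ∀ y, α a * y = y * α a → P ⊔ zpowers a ≤ hα.cF y := fun y e1 =>
    sup_le (fun p hp => hα.mem_cF.2 ⟨Qk_le_N K (PQ hp), by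
      rw [(hα.mem_Qk.1 (PQ hp)).2, one_mul, mul_one]⟩) (zpowers_le.2 (hα.mem_cF.2 ⟨ha, e1⟩))
  have p1 := Sol.pg_sup hP (Sol.two_of_sq a2) c
  obtain ⟨u, u1, rfl, u3, u4⟩ := hα.liftc2 p1 hx (k _ c2) ⟨x1, x2⟩
  obtain ⟨v, v1, rfl, v3, v4⟩ := hα.liftc2 (Sol.pg_sup p1 (Sol.two_of_sq u3.2) u4) hy
    (sup_le (k _ c3) (zpowers_le.2 (hα.mem_cF.2 ⟨le_normalizer u1, c1⟩))) ⟨y1, y2⟩
  exact ⟨u, u1, v, v1, u3, v3, fun e1 => xy (congrArg α e1), v4 u Sol.zr, u4 a Sol.zr,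
    v4 a (mem_sup_left Sol.zr), fun p hp => ⟨u4 p (mem_sup_left hp), v4 p (mem_sup_left (mem_sup_left hp))⟩⟩

end Cfsg.Agent.McC
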